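import Groth.Prelude.Def_W4c1hurwitzcptBd
import Mathlib

/-!
Submodules of `k⟦x⟧` over `k⟦t⟧`, `t ↦ x ^ p`: residue components and triangular generators.
-/

universe u

namespace Groth.Agent.RootDiskLib

open PowerSeries W4c1hurwitzcpt

set_option backward.isDefEq.respectTransparency false

variable {k : Type u} [Field k] {p : ℕ} [NeZero p]

lemma algebraMap_val (a : PowerSeries k) :
    RootDisk.val (algebraMap (PowerSeries k) (RootDisk p k) a) =
      PowerSeries.expand p (NeZero.ne p) a := rfl

lemma smul_val (a : PowerSeries k) (f : RootDisk p k) :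
    RootDisk.val (a • f) = PowerSeries.expand p (NeZero.ne p) a * RootDisk.val f := rfl

lemma order_smul_val (a : PowerSeries k) (f : RootDisk p k) :
    order (RootDisk.val (a • f)) = p • order a + order (RootDisk.val f) := by
  rw [smul_val, order_mul, order_expand]

lemma nsmul_top_enat (n : ℕ) [NeZero n] : n • (⊤ : ℕ∞) = ⊤ := by
  rw [nsmul_eq_mul, ENat.mul_top]
  exact_mod_cast NeZero.ne n

/-- The `r`-th residue component, as a series. -/
noncomputable def comp (r : ℕ) (f : RootDisk p k) : PowerSeries k :=
  PowerSeries.mk fun n => coeff (p * n + r) (RootDisk.val f)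

lemma comp_add (r : ℕ) (f g : RootDisk p k) : comp r (f + g) = comp r f + comp r g := by
  ext n; simp [comp]

lemma comp_smul {r : ℕ} (hr : r < p) (a : PowerSeries k) (f : RootDisk p k) :
    comp r (a • f) = a * comp r f := by
  have hp : 0 < p := by omega
  ext n
  rw [comp, coeff_mk, smul_val, coeff_mul, coeff_mul]
  symm
  refine Finset.sum_bij_ne_zero (fun x _ _ => (p * x.1, p * x.2 + r)) ?_ ?_ ?_ ?_
  · intro x hx _
    rw [Finset.HasAntidiagonal.mem_antidiagonal] at hx ⊢
    rw [← hx]; ring
  · intro x _ _ y _ _ h
    simp only [Prod.mk.injEq] at h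
    have h1 := Nat.eq_of_mul_eq_mul_left hp h.1
    have h2 := Nat.eq_of_mul_eq_mul_left hp (Nat.add_right_cancel h.2)
    exact Prod.ext h1 h2
  · intro b hb hb0
    have hdvd : p ∣ b.1 := by
      by_contra hd
      exact hb0 (by rw [coeff_expand_of_not_dvd p (NeZero.ne p) _ hd, zero_mul])
    obtain ⟨i, hi⟩ := hdvd
    rw [Finset.HasAntidiagonal.mem_antidiagonal] at hb
    have hin : i ≤ n := by
      by_contra hc
      have : p * (n + 1) ≤ p * i := Nat.mul_le_mul_left p (by omega)
      rw [Nat.mul_add, mul_one] at this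
      omega
    obtain ⟨j, rfl⟩ := Nat.exists_eq_add_of_le hin
    have hb2 : b.2 = p * j + r := by rw [Nat.mul_add] at hb; omega
    have hb' : b = (p * i, p * j + r) := Prod.ext hi hb2
    subst hb'
    refine ⟨(i, j), by simp, ?_, rfl⟩
    simpa [comp, coeff_expand_mul] using hb0
  · intro x _ _
    simp [comp, coeff_expand_mul]

/-- The residue component as a linear map. -/
noncomputable def compₗ (r : Fin p) : RootDisk p k →ₗ[PowerSeries k] PowerSeries k where
  toFun := comp r.1
  map_add' := comp_add r.1
  map_smul' a f := comp_smul r.2 a f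

lemma eq_zero_of_comp (f : RootDisk p k) (h : ∀ r : Fin p, compₗ r f = 0) : f = 0 := by
  apply (RootDisk.val (p := p) (k := k)).injective
  rw [map_zero]
  ext n
  have hp : 0 < p := Nat.pos_of_ne_zero (NeZero.ne p)
  have := congrArg (coeff (n / p)) (h ⟨n % p, Nat.mod_lt n hp⟩)
  simpa [compₗ, comp, Nat.div_add_mod] using this

/-- Triangular generators. -/
theorem exists_triangular (T : Finset (Fin p)) :
    ∀ N : Submodule (PowerSeries k) (RootDisk p k), (∀ f ∈ N, ∀ r, r ∉ T → compₗ r f = 0) →
      ∃ (U : Finset (Fin p)) (e : Fin p → RootDisk p k), U ⊆ T ∧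
        (∀ r ∈ U, e r ∈ N ∧ (order (RootDisk.val (e r))).toNat % p = r.1) ∧
        N ≤ Submodule.span (PowerSeries k) (e '' U) := by
  induction T using Finset.strongInduction with
  | H T IH =>
    intro N hN
    by_cases hbot : N = ⊥
    · exact ⟨∅, 0, by simp, by simp, by simp [hbot]⟩
    classical
    have hex : ∃ n : ℕ, ∃ f ∈ N, order (RootDisk.val f) = (n : ℕ∞) := by
      obtain ⟨f, hf, hf0⟩ := Submodule.exists_mem_ne_zero_of_ne_bot hbot
      have : order (RootDisk.val f) ≠ ⊤ := by
        rw [Ne, order_eq_top]; simpa using hf0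
      obtain ⟨n, hn⟩ := ENat.ne_top_iff_exists.1 this
      exact ⟨n, f, hf, hn.symm⟩
    obtain ⟨e0, he0, ho⟩ := Nat.find_spec hex
    set o := Nat.find hex
    have hp : 0 < p := Nat.pos_of_ne_zero (NeZero.ne p)
    let r0 : Fin p := ⟨o % p, Nat.mod_lt o hp⟩
    have hlow : ∀ f ∈ N, ∀ n < o, coeff n (RootDisk.val f) = 0 := by
      intro f hf n hn
      refine coeff_of_lt_order n ?_
      by_contra hc
      rw [not_lt] at hc
      obtain ⟨m, hm⟩ := ENat.ne_top_iff_exists.1 (ne_top_of_le_ne_top (ENat.coe_ne_top n) hc)
      have := Nat.find_min' hex ⟨f, hf, hm.symm⟩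
      rw [← hm, Nat.cast_le] at hc
      omega
    have hne : compₗ r0 e0 ≠ 0 := by
      intro h
      have := congrArg (coeff (o / p)) h
      have h2 : coeff o (RootDisk.val e0) ≠ 0 := by
        have := coeff_order (φ := RootDisk.val e0) (by
          intro hz; rw [hz, order_zero] at ho; exact ENat.top_ne_coe o ho)
        simpa [ho] using this
      exact h2 (by simpa [compₗ, comp, r0, Nat.div_add_mod] using this)
    have hr0 : r0 ∈ T := by
      by_contra h; exact hne (hN e0 he0 r0 h)
    have hdvd : ∀ f ∈ N, compₗ r0 e0 ∣ compₗ r0 f := by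
      intro f hf
      have h1 : X ^ (o / p) ∣ compₗ r0 f := by
        rw [X_pow_dvd_iff]
        intro n hn
        simp only [compₗ, comp, LinearMap.coe_mk, AddHom.coe_mk, coeff_mk]
        refine hlow f hf _ ?_
        have : p * (n + 1) ≤ p * (o / p) := Nat.mul_le_mul_left p hn
        have := Nat.div_add_mod o p
        rw [Nat.mul_add, mul_one] at *
        show p * n + o % p < o
        omega
      obtain ⟨u, hu⟩ : X ^ (o / p) ∣ compₗ r0 e0 := by
        rw [X_pow_dvd_iff]
        intro n hn
        simp only [compₗ, comp, LinearMap.coe_mk, AddHom.coe_mk, coeff_mk]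
        refine hlow e0 he0 _ ?_
        have : p * (n + 1) ≤ p * (o / p) := Nat.mul_le_mul_left p hn
        have := Nat.div_add_mod o p
        rw [Nat.mul_add, mul_one] at *
        show p * n + o % p < o
        omega
      have hu' : IsUnit u := by
        rw [isUnit_iff_constantCoeff]
        refine Ne.isUnit ?_
        intro hc
        have h2 : coeff o (RootDisk.val e0) ≠ 0 := by
          have := coeff_order (φ := RootDisk.val e0) (by
            intro hz; rw [hz, order_zero] at ho; exact ENat.top_ne_coe o ho)
          simpa [ho] using this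
        refine h2 ?_
        have := congrArg (coeff (o / p)) hu
        rw [show coeff (o / p) (X ^ (o / p) * u) = constantCoeff u by
          simp [coeff_X_pow_mul']] at this
        rw [hc] at this
        simpa [compₗ, comp, r0, Nat.div_add_mod] using this
      rw [hu]
      exact (IsUnit.mul_right_dvd hu').2 h1
    let N' : Submodule (PowerSeries k) (RootDisk p k) := N ⊓ LinearMap.ker (compₗ r0)
    obtain ⟨U, e, hUT, hUe, hspan⟩ := IH (T.erase r0) (Finset.erase_ssubset hr0) N' (by
      intro f hf r hr
      by_cases h : r = r0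
      · subst h; exact hf.2
      · exact hN f hf.1 r (fun h' => hr (Finset.mem_erase.2 ⟨h, h'⟩)))
    have hr0U : r0 ∉ U := fun h => (Finset.mem_erase.1 (hUT h)).1 rfl
    refine ⟨insert r0 U, Function.update e r0 e0, ?_, ?_, ?_⟩
    · intro r hr
      rcases Finset.mem_insert.1 hr with rfl | h
      · exact hr0
      · exact Finset.mem_of_mem_erase (hUT h)
    · intro r hr
      rcases Finset.mem_insert.1 hr with rfl | h
      · simp [he0, ho, r0]
      · have hne' : r ≠ r0 := fun hh => hr0U (hh ▸ h)
        rw [Function.update_of_ne hne']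
        exact ⟨(hUe r h).1.1, (hUe r h).2⟩
    · intro f hf
      obtain ⟨c, hc⟩ := hdvd f hf
      have hmem : f - c • e0 ∈ N' := by
        refine ⟨Submodule.sub_mem _ hf (Submodule.smul_mem _ c he0), ?_⟩
        simp only [LinearMap.mem_ker, SetLike.mem_coe, map_sub, map_smul, smul_eq_mul, hc]
        ring
      rw [← sub_add_cancel f (c • e0)]
      refine Submodule.add_mem _ ?_ (Submodule.smul_mem _ c (Submodule.subset_span
        ⟨r0, by simp, by simp⟩))
      refine Submodule.span_mono ?_ (hspan hmem)
      rintro x ⟨r, hr, rfl⟩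
      exact ⟨r, Finset.mem_insert_of_mem hr,
        Function.update_of_ne (fun hh : r = r0 => hr0U (hh ▸ hr)) _ _⟩

/-- A surjection from a finite free module to itself is injective. -/
theorem injective_of_range_top {R M : Type*} [CommRing R] [AddCommGroup M] [Module R M]
    {ι : Type*} [Finite ι] (b : Module.Basis ι R M) (g : ι → M)
    (hg : ⊤ ≤ Submodule.span R (Set.range g)) : Function.Bijective (b.constr ℕ g) := by
  haveI : Module.Finite R M := Module.Finite.of_basis b
  have hs : Function.Surjective (b.constr ℕ g) := by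
    rw [← LinearMap.range_eq_top, Module.Basis.constr_range]
    exact top_le_iff.1 hg
  exact ⟨OrzechProperty.injective_of_surjective_endomorphism _ hs, hs⟩

end Groth.Agent.RootDiskLib
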